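import Cfsg.Agent.H797.Nc.Tools
import Cfsg.Agent.H994.Cyc.Imp
import Cfsg.Agent.S0725

/-!
# NC (A): a subgroup `T` of `S_n`, `n ≥ 20`, with at least `|A_n|` commuting pairs (helper797, S4766)
-/

set_option autoImplicit false
set_option linter.unusedSectionVars false

namespace Cfsg.Agent.H797.Nc

open Equiv MulAction
open scoped Nat Pointwise

variable {α : Type} [Fintype α] [DecidableEq α]

theorem fac_le {T : Subgroup (Perm α)} (hn : 2 ≤ Fintype.card α)
    (h : Nat.card (alternatingGroup α) ≤ Nat.card T * Nat.card (ConjClasses T)) :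
    (Fintype.card α)! ≤ 2 * (Nat.card T * Nat.card (ConjClasses T)) := by
  have : Nontrivial α := Fintype.one_lt_card_iff_nontrivial.1 hn
  have h1 := two_mul_nat_card_alternatingGroup (α := α)
  rw [Nat.card_perm, Nat.card_eq_fintype_card (α := α)] at h1
  rw [← h1]
  exact Nat.mul_le_mul_left _ h

/-- the group induced on an invariant set -/
def ind (T : Subgroup (Perm α)) (Δ : Finset α) (h : ∀ (g : T) x, (T.subtype g) x ∈ Δ ↔ x ∈ Δ) :
    Subgroup (Perm {x // x ∈ Δ}) := (resHom T.subtype (fun x => x ∈ Δ) h).range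

theorem card_le_ind (T : Subgroup (Perm α)) (Δ : Finset α) (h : ∀ (g : T) x, (T.subtype g) x ∈ Δ ↔ x ∈ Δ) :
    Nat.card T ≤ Nat.card (ind T Δ h) * (Fintype.card α - Δ.card)! := by
  let F : T → ind T Δ h × Perm {x // x ∉ Δ} := fun g =>
    (⟨resHom T.subtype (fun x => x ∈ Δ) h g, g, rfl⟩, (resTwo T.subtype (fun x => x ∈ Δ) h g).2)
  have hF : Function.Injective F := by
    intro a b hab
    apply resTwo_injective T.subtype_injective (fun x => x ∈ Δ) h
    apply Prod.ext
    · exact congrArg (fun z : ind T Δ h × Perm {x // x ∉ Δ} => (z.1 : Perm {x // x ∈ Δ})) hab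
    · exact congrArg (fun z : ind T Δ h × Perm {x // x ∉ Δ} => z.2) hab
  have h1 := Nat.card_le_card_of_injective F hF
  rw [Nat.card_prod, Nat.card_perm (α := {x // x ∉ Δ}), Nat.card_eq_fintype_card (α := {x // x ∉ Δ}), card_out] at h1
  exact h1

/-- the case of an induced group containing the alternating group -/
theorem alt_case {T : Subgroup (Perm α)} (hk : Nat.card (ConjClasses T) ≤ 2 ^ (Fintype.card α - 1))
    (hn : 20 ≤ Fintype.card α) (hA : (Fintype.card α)! ≤ 2 * (Nat.card T * Nat.card (ConjClasses T)))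
    (Δ : Finset α) (h : ∀ (g : T) x, (T.subtype g) x ∈ Δ ↔ x ∈ Δ) (h1 : 2 * Fintype.card α < 3 * Δ.card)
    (hR : alternatingGroup {x // x ∈ Δ} ≤ ind T Δ h) :
    ∀ g ∈ alternatingGroup α, (∀ x ∉ Δ, g x = x) → g ∈ T := by
  have hle : Δ.card ≤ Fintype.card α := Finset.card_le_univ Δ
  set D := resHom T.subtype (fun x => x ∈ Δ) h with hD
  set C := resHom T.subtype (fun x => x ∉ Δ) (fun g x => not_congr (h g x)) with hC
  set K1 : Subgroup (Perm {x // x ∈ Δ}) := C.ker.map D with hK1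
  -- the alternating group normalises `K1`
  have hnorm : (K1.subgroupOf (alternatingGroup {x // x ∈ Δ})).Normal := by
    refine ⟨?_⟩
    rintro ⟨x, hx⟩ hxK ⟨g, hg⟩
    rw [Subgroup.mem_subgroupOf] at hxK ⊢
    obtain ⟨t, ht⟩ := hR hg
    obtain ⟨y, hy, hyx⟩ := hxK
    refine ⟨t * y * t⁻¹, Subgroup.Normal.conj_mem inferInstance y hy t, ?_⟩
    change D y = x at hyx
    change D t = g at ht
    rw [map_mul, map_mul, map_inv, hyx, ht]
    rfl
  have hsimple : IsSimpleGroup (alternatingGroup {x // x ∈ Δ}) := by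
    apply alternatingGroup.isSimpleGroup
    rw [Nat.card_eq_fintype_card, card_in]
    omega
  have hDC : ∀ a b : T, D a = D b → C a = C b → a = b := by
    intro a b h1 h2
    exact resTwo_injective T.subtype_injective (fun x => x ∈ Δ) h (Prod.ext h1 h2)
  rcases hnorm.eq_bot_or_eq_top with hbot | htop
  · -- `K1` has order at most two
    exfalso
    have hinj : Function.Injective ((Perm.sign (α := {x // x ∈ Δ})).comp K1.subtype) := by
      rw [injective_iff_map_eq_one]
      rintro ⟨σ, hσ⟩ hs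
      have h2 : σ ∈ alternatingGroup {x // x ∈ Δ} := Perm.mem_alternatingGroup.2 hs
      have h3 : (⟨σ, h2⟩ : alternatingGroup {x // x ∈ Δ}) ∈ K1.subgroupOf (alternatingGroup {x // x ∈ Δ}) :=
        Subgroup.mem_subgroupOf.2 hσ
      rw [hbot, Subgroup.mem_bot] at h3
      exact Subtype.ext (congrArg (fun z : alternatingGroup {x // x ∈ Δ} => (z : Perm {x // x ∈ Δ})) h3)
    have hK2 : Nat.card K1 ≤ 2 := by
      have := Nat.card_le_card_of_injective _ hinj
      rwa [Nat.card_eq_fintype_card (α := ℤˣ), Fintype.card_units_int] at this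
    have hker : Nat.card C.ker ≤ 2 := by
      refine le_trans ?_ hK2
      let F : C.ker → K1 := fun a => ⟨D a, Subgroup.mem_map_of_mem D a.2⟩
      refine Nat.card_le_card_of_injective F ?_
      intro a b hab
      apply Subtype.ext
      refine hDC _ _ (congrArg Subtype.val hab) ?_
      rw [MonoidHom.mem_ker.1 a.2, MonoidHom.mem_ker.1 b.2]
    have hT : Nat.card T ≤ 2 * (Fintype.card α - Δ.card)! := by
      have h2 := C.ker.card_mul_index
      have h3 : C.ker.index ≤ (Fintype.card α - Δ.card)! := by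
        rw [Subgroup.index_ker]
        have h4 := Subgroup.card_le_card_group C.range
        rwa [Nat.card_perm, Nat.card_eq_fintype_card (α := {x // x ∉ Δ}), card_out] at h4
      rw [← h2]
      exact Nat.mul_le_mul hker h3
    have h5 := num_prim hn h1 hle
    have h6 : 2 ^ Fintype.card α = 2 * 2 ^ (Fintype.card α - 1) := by
      rw [← pow_succ', Nat.sub_add_cancel (by omega)]
    have h7 : 2 ≤ 4 ^ Δ.card := by
      calc 2 ≤ 4 ^ 1 := by norm_num
        _ ≤ 4 ^ Δ.card := Nat.pow_le_pow_right (by norm_num) (by omega)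
    have h8 : (Fintype.card α)! ≤ 4 ^ Δ.card * ((Fintype.card α - Δ.card)! * 2 ^ Fintype.card α) := by
      calc (Fintype.card α)! ≤ 2 * (Nat.card T * Nat.card (ConjClasses T)) := hA
        _ ≤ 2 * ((2 * (Fintype.card α - Δ.card)!) * 2 ^ (Fintype.card α - 1)) :=
            Nat.mul_le_mul_left _ (Nat.mul_le_mul hT hk)
        _ = 2 * ((Fintype.card α - Δ.card)! * 2 ^ Fintype.card α) := by rw [h6]; ring
        _ ≤ _ := Nat.mul_le_mul_right _ h7
    omega
  · intro g hg hfix
    have hgΔ : ∀ x, g x ∈ Δ ↔ x ∈ Δ := by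
      intro x
      constructor
      · intro hx
        by_contra hcon
        rw [hfix x hcon] at hx
        exact hcon hx
      · intro hx
        by_contra hcon
        have h2 := hfix (g x) hcon
        have h3 := g.injective h2
        rw [h3] at hcon
        exact hcon hx
    have hσ : g.subtypePerm hgΔ ∈ alternatingGroup {x // x ∈ Δ} := by
      have h9 := Perm.sign_subtypePerm g (p := fun x => x ∈ Δ) hgΔ (fun x hx => by
        by_contra hcon
        exact hx (hfix x hcon))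
      rw [Perm.mem_alternatingGroup.1 hg] at h9
      rw [Perm.mem_alternatingGroup]
      convert h9
    have h2 : (⟨g.subtypePerm hgΔ, hσ⟩ : alternatingGroup {x // x ∈ Δ}) ∈
        K1.subgroupOf (alternatingGroup {x // x ∈ Δ}) := by
      rw [htop]
      exact Subgroup.mem_top _
    rw [Subgroup.mem_subgroupOf] at h2
    obtain ⟨t, ht, htg⟩ := h2
    have h3 : (t : Perm α) = g := by
      ext x
      by_cases hx : x ∈ Δ
      · have := congrArg (fun σ : Perm {x // x ∈ Δ} => ((σ ⟨x, hx⟩ : {x // x ∈ Δ}) : α)) htg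
        exact this
      · have h4 : C t = 1 := MonoidHom.mem_ker.1 ht
        have := congrArg (fun σ : Perm {x // x ∉ Δ} => ((σ ⟨x, hx⟩ : {x // x ∉ Δ}) : α)) h4
        rw [hfix x hx]
        exact this
    rw [← h3]
    exact t.2

/-- two blocks -/
theorem two_blocks {T : Subgroup (Perm α)} (hn : 20 ≤ Fintype.card α)
    (hA : (Fintype.card α)! ≤ 2 * (Nat.card T * Nat.card (ConjClasses T)))
    (Δ : Finset α) (h : ∀ (g : T) x, (T.subtype g) x ∈ Δ ↔ x ∈ Δ) (h1 : 2 * Fintype.card α < 3 * Δ.card)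
    {β : Type} [Finite β] (f : {x // x ∈ Δ} → β) {c : ℕ} (hc : c * 2 = Δ.card)
    (hfib : ∀ y, Nat.card {x // f x = y} = c) (hβ : Nat.card β = 2) (hW : ∀ g ∈ ind T Δ h, g ∈ H994.Cyc.Wr f) : False := by
  classical
  have hle : Δ.card ≤ Fintype.card α := Finset.card_le_univ Δ
  have : Nonempty β := by
    rw [← not_isEmpty_iff]
    intro hcon
    rw [Nat.card_of_isEmpty] at hβ
    omega
  obtain ⟨y0⟩ := this
  let B : β → Set α := fun y => {x | ∃ hx : x ∈ Δ, f ⟨x, hx⟩ = y}
  have hB : ∀ (t : T) (y : β), ∃ y' : β, t • B y = B y' := by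
    intro t y
    obtain ⟨π, hπ⟩ := hW _ ⟨t, rfl⟩
    refine ⟨π y, ?_⟩
    have key : ∀ x, (t • x ∈ B (π y) ↔ x ∈ B y) := by
      intro x
      constructor
      · rintro ⟨hx, hfx⟩
        have hx' : x ∈ Δ := (h t x).1 hx
        refine ⟨hx', ?_⟩
        have h2 := hπ ⟨x, hx'⟩
        apply π.injective
        rw [← h2, ← hfx]
        rfl
      · rintro ⟨hx, hfx⟩
        have hx' : t • x ∈ Δ := (h t x).2 hx
        refine ⟨hx', ?_⟩
        have h2 := hπ ⟨x, hx⟩
        rw [hfx] at h2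
        exact h2
    ext x
    rw [Set.mem_smul_set_iff_inv_smul_mem, ← key, smul_inv_smul]
  set T0 : Subgroup T := stabilizer T (B y0) with hT0
  have hidx : T0.index ≤ 2 := by
    rw [hT0, index_stabilizer]
    have h2 : orbit T (B y0) ⊆ Set.range B := by
      rintro _ ⟨t, rfl⟩
      obtain ⟨y', hy'⟩ := hB t y0
      exact ⟨y', hy'.symm⟩
    have h3 : (Set.range B).ncard ≤ 2 := by
      rw [← Set.image_univ, ← hβ, ← Set.ncard_univ]
      exact Set.ncard_image_le (Set.toFinite _)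
    exact (Set.ncard_le_ncard h2 (Set.toFinite _)).trans h3
  have hpairs := pairs_index_two T0 hidx
  let BF : Finset α := Finset.univ.filter fun x => x ∈ B y0
  have hBF : ∀ x, x ∈ BF ↔ x ∈ B y0 := by
    intro x
    simp only [BF, Finset.mem_filter, Finset.mem_univ, true_and]
  have hcard : BF.card = c := by
    rw [← hfib y0, ← Fintype.card_coe BF, ← Nat.card_eq_fintype_card]
    refine Nat.card_congr ⟨fun x => ⟨⟨x.1, ((hBF x.1).1 x.2).1⟩, ((hBF x.1).1 x.2).2⟩,
      fun x => ⟨x.1.1, (hBF x.1.1).2 ⟨x.1.2, x.2⟩⟩, fun x => rfl, fun x => rfl⟩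
  refine no_blk (ι := T.subtype.comp T0.subtype) (K := T0) ?_ hn ?_ BF ?_ (by omega) (by omega)
  · exact T.subtype_injective.comp T0.subtype_injective
  · omega
  · intro g x
    rw [hBF, hBF]
    have h2 : (g : T) • B y0 = B y0 := g.2
    have h3 : (g : T) • x ∈ (g : T) • B y0 ↔ x ∈ B y0 := Set.smul_mem_smul_set_iff
    rw [h2] at h3
    exact h3

/-- **NC (A)** -/
theorem big {T : Subgroup (Perm α)} (hn : 20 ≤ Fintype.card α)
    (hk : Nat.card (ConjClasses T) ≤ 2 ^ (Fintype.card α - 1))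
    (hA : Nat.card (alternatingGroup α) ≤ Nat.card T * Nat.card (ConjClasses T)) :
    ∃ Δ : Finset α, 2 * Fintype.card α < 3 * Δ.card ∧ (∀ g ∈ T, ∀ x, g x ∈ Δ ↔ x ∈ Δ) ∧
      ∀ g ∈ alternatingGroup α, (∀ x ∉ Δ, g x = x) → g ∈ T := by
  classical
  have hA' := fac_le (by omega) hA
  obtain ⟨Δ, hinv, hor⟩ := exists_orbit (K := T) (α := α)
  have h : ∀ (g : T) x, (T.subtype g) x ∈ Δ ↔ x ∈ Δ := hinv
  rcases hor with ⟨h1, h2⟩ | ⟨h1, htr⟩
  · exact (no_mid T.subtype_injective hn hA' Δ h h1 h2).elim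
  have hle : Δ.card ≤ Fintype.card α := Finset.card_le_univ Δ
  have hcT := card_le_ind T Δ h
  have h6 : 2 ^ Fintype.card α = 2 * 2 ^ (Fintype.card α - 1) := by
    rw [← pow_succ', Nat.sub_add_cancel (by omega)]
  have hb : ∀ u : ℕ, Nat.card (ind T Δ h) ≤ u →
      (Fintype.card α)! ≤ u * ((Fintype.card α - Δ.card)! * 2 ^ Fintype.card α) := by
    intro u hu
    calc (Fintype.card α)! ≤ 2 * (Nat.card T * Nat.card (ConjClasses T)) := hA'
      _ ≤ 2 * ((Nat.card (ind T Δ h) * (Fintype.card α - Δ.card)!) * 2 ^ (Fintype.card α - 1)) :=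
          Nat.mul_le_mul_left _ (Nat.mul_le_mul hcT hk)
      _ = Nat.card (ind T Δ h) * ((Fintype.card α - Δ.card)! * 2 ^ Fintype.card α) := by rw [h6]; ring
      _ ≤ _ := Nat.mul_le_mul_right _ hu
  refine ⟨Δ, h1, fun g hg x => hinv ⟨g, hg⟩ x, ?_⟩
  by_cases hR : alternatingGroup {x // x ∈ Δ} ≤ ind T Δ h
  · exact alt_case hk hn hA' Δ h h1 hR
  exfalso
  have htrans : IsPretransitive (ind T Δ h) {x // x ∈ Δ} := by
    refine ⟨?_⟩
    rintro ⟨x, hx⟩ ⟨y, hy⟩
    obtain ⟨g, hg⟩ := htr x hx y hy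
    exact ⟨⟨_, g, rfl⟩, Subtype.ext hg⟩
  by_cases hprim : IsPreprimitive (ind T Δ h) {x // x ∈ Δ}
  · have h3 := Cfsg.Agent.S0725.result (ind T Δ h) hprim hR
    rw [card_in] at h3
    have h4 := hb _ h3
    have h5 := num_prim hn h1 hle
    omega
  · obtain ⟨β, _, f, c, b, hc, hb2, hcb, hfib, hβ, hW⟩ := H994.Cyc.exists_fibre (ind T Δ h) htrans hprim
    rw [Nat.card_eq_fintype_card, card_in] at hcb
    rcases Nat.eq_or_lt_of_le hb2 with rfl | hb3
    · exact two_blocks hn hA' Δ h h1 f hcb hfib hβ hW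
    · have h3 : Nat.card (ind T Δ h) ≤ b ! * c ! ^ b := by
        refine le_trans ?_ (H994.Cyc.card_Wr_le f hfib hβ)
        exact Nat.card_le_card_of_injective (fun g : ind T Δ h => (⟨g, hW g g.2⟩ : H994.Cyc.Wr f)) fun x y hxy =>
          Subtype.ext (congrArg (fun z : H994.Cyc.Wr f => (z : Perm {x // x ∈ Δ})) hxy)
      have h4 := hb _ h3
      have h5 := num_imp hn h1 hle hb3 hc (by rw [← hcb, mul_comm])
      omega

end Cfsg.Agent.H797.Nc
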