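import Cfsg.Agent.H797.Nc.Tools
import Cfsg.Agent.H797.Nc.Big

set_option autoImplicit false

namespace Cfsg.Agent.H797.Nc

/-!
# NC (B): stabilisers with many commuting pairs in an action of `A_n` on a group (helper797, S4766)
-/

section

open Equiv MulAction
open scoped Nat

/-! ### Numerical part -/

theorem fb0 (s : ℕ) : 2 * Nat.fib (4 * (s + 7) + 1) < (4 * (s + 7)).choose (s + 7) := by
  induction s with
  | zero => decide +kernel
  | succ s ih =>
    have := step_four (n := 4 * (s + 7)) (k := s + 7) (c := 2) (by omega) ?_ ih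
    · exact this
    · rw [show 4 * (s + 7) + 3 - (s + 7) = 3 * s + 24 by omega, show 4 * (s + 7) + 2 - (s + 7) = 3 * s + 23 by omega,
        show 4 * (s + 7) + 1 - (s + 7) = 3 * s + 22 by omega]
      nlinarith [Nat.zero_le (s ^ 4), Nat.zero_le (s ^ 3), Nat.zero_le (s ^ 2)]

theorem fb1 (s : ℕ) : 2 * Nat.fib (4 * (s + 6) + 1 + 1) < (4 * (s + 6) + 1).choose (s + 7) := by
  induction s with
  | zero => decide +kernel
  | succ s ih =>
    have := step_four (n := 4 * (s + 6) + 1) (k := s + 7) (c := 2) (by omega) ?_ ih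
    · exact this
    · rw [show 4 * (s + 6) + 1 + 3 - (s + 7) = 3 * s + 21 by omega, show 4 * (s + 6) + 1 + 2 - (s + 7) = 3 * s + 20 by omega,
        show 4 * (s + 6) + 1 + 1 - (s + 7) = 3 * s + 19 by omega]
      nlinarith [Nat.zero_le (s ^ 4), Nat.zero_le (s ^ 3), Nat.zero_le (s ^ 2)]

theorem fb2 (s : ℕ) : 2 * Nat.fib (4 * (s + 6) + 2 + 1) < (4 * (s + 6) + 2).choose (s + 7) := by
  induction s with
  | zero => decide +kernel
  | succ s ih =>
    have := step_four (n := 4 * (s + 6) + 2) (k := s + 7) (c := 2) (by omega) ?_ ih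
    · exact this
    · rw [show 4 * (s + 6) + 2 + 3 - (s + 7) = 3 * s + 22 by omega, show 4 * (s + 6) + 2 + 2 - (s + 7) = 3 * s + 21 by omega,
        show 4 * (s + 6) + 2 + 1 - (s + 7) = 3 * s + 20 by omega]
      nlinarith [Nat.zero_le (s ^ 4), Nat.zero_le (s ^ 3), Nat.zero_le (s ^ 2)]

theorem fb3 (s : ℕ) : 2 * Nat.fib (4 * (s + 6) + 3 + 1) < (4 * (s + 6) + 3).choose (s + 7) := by
  induction s with
  | zero => decide +kernel
  | succ s ih =>
    have := step_four (n := 4 * (s + 6) + 3) (k := s + 7) (c := 2) (by omega) ?_ ih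
    · exact this
    · rw [show 4 * (s + 6) + 3 + 3 - (s + 7) = 3 * s + 23 by omega, show 4 * (s + 6) + 3 + 2 - (s + 7) = 3 * s + 22 by omega,
        show 4 * (s + 6) + 3 + 1 - (s + 7) = 3 * s + 21 by omega]
      nlinarith [Nat.zero_le (s ^ 4), Nat.zero_le (s ^ 3), Nat.zero_le (s ^ 2)]

theorem nb_large {n w : ℕ} (hn : 25 ≤ n) (h1 : n ≤ 4 * w) (h2 : 2 * w ≤ n) :
    2 * (Nat.fib (w + 1) * Nat.fib (n - w + 1)) < n.choose w := by
  refine lt_of_le_of_lt (Nat.mul_le_mul_left 2 (fib_mul_le (by omega))) ?_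
  by_cases h0 : n % 4 = 0
  · obtain ⟨s, hs⟩ : ∃ s, n / 4 = s + 7 := ⟨n / 4 - 7, by omega⟩
    refine lt_of_lt_of_le ?_ (choose_mono (show s + 7 ≤ w by omega) h2)
    rw [show n = 4 * (s + 7) by omega]
    exact fb0 s
  · obtain ⟨s, hs⟩ : ∃ s, n / 4 = s + 6 := ⟨n / 4 - 6, by omega⟩
    refine lt_of_lt_of_le ?_ (choose_mono (show s + 7 ≤ w by omega) h2)
    have h3 : n = 4 * (s + 6) + 1 ∨ n = 4 * (s + 6) + 2 ∨ n = 4 * (s + 6) + 3 := by omega
    rcases h3 with h3 | h3 | h3
    · rw [h3]; exact fb1 s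
    · rw [h3]; exact fb2 s
    · rw [h3]; exact fb3 s

theorem nb_small_chk : ∀ n ∈ List.range 25, ∀ w ∈ List.range 13, 7 ≤ n → n ≤ 4 * w → 2 * w < n → 3 ≤ w →
    2 * (row w w * row (n - w) (n - w)) < n.choose w := by
  decide +kernel

theorem nb_small {n w : ℕ} (h7 : 7 ≤ n) (h24 : n ≤ 24) (h1 : n ≤ 4 * w) (h2 : 2 * w < n) (h3 : 3 ≤ w) :
    2 * (row w w * row (n - w) (n - w)) < n.choose w :=
  nb_small_chk n (List.mem_range.2 (by omega)) w (List.mem_range.2 (by omega)) h7 h1 h2 h3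

/-! ### Sets invariant under an alternating group -/

variable {n : ℕ}

/-- the even permutations supported in `X` leave `Y` invariant -/
theorem disjoint_of_inv {X Y : Finset (Fin n)} (h3 : 3 ≤ X.card) (hXY : Y.card < X.card)
    (h : ∀ g ∈ alternatingGroup (Fin n), (∀ x ∉ X, g x = x) → ∀ x, g x ∈ Y ↔ x ∈ Y) : ∀ x ∈ X, x ∉ Y := by
  intro y hyX hyY
  obtain ⟨z, hzX, hzY⟩ : ∃ z ∈ X, z ∉ Y := by
    by_contra hcon
    push Not at hcon
    have := Finset.card_le_card (show X ⊆ Y from hcon)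
    omega
  have hyz : y ≠ z := by rintro rfl; exact hzY hyY
  obtain ⟨t, htX, hty, htz⟩ : ∃ t ∈ X, t ≠ y ∧ t ≠ z := by
    have h4 : 0 < ((X.erase y).erase z).card := by
      rw [Finset.card_erase_of_mem (Finset.mem_erase.2 ⟨hyz.symm, hzX⟩), Finset.card_erase_of_mem hyX]
      omega
    obtain ⟨t, ht⟩ := Finset.card_pos.1 h4
    rw [Finset.mem_erase, Finset.mem_erase] at ht
    exact ⟨t, ht.2.2, ht.2.1, ht.1⟩
  have h5 := h (swap y z * swap z t) ?_ ?_ y
  · rw [Perm.mul_apply, swap_apply_of_ne_of_ne hyz hty.symm, swap_apply_left] at h5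
    exact hzY (h5.2 hyY)
  · rw [Perm.mem_alternatingGroup, map_mul, Perm.sign_swap hyz, Perm.sign_swap htz.symm]
    rfl
  · intro x hx
    have h6 : x ≠ y := by rintro rfl; exact hx hyX
    have h7 : x ≠ z := by rintro rfl; exact hx hzX
    have h8 : x ≠ t := by rintro rfl; exact hx htX
    rw [Perm.mul_apply, swap_apply_of_ne_of_ne h7 h8, swap_apply_of_ne_of_ne h6 h7]

/-- an even permutation moving a small set away from itself -/
theorem exists_move (C : Finset (Fin n)) (h : 2 * C.card ≤ n) (h2 : C.card + 2 ≤ n) :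
    ∃ g ∈ alternatingGroup (Fin n), ∀ x ∈ C, g x ∉ C := by
  have hcc : Cᶜ.card = n - C.card := by rw [Finset.card_compl, Fintype.card_fin]
  obtain ⟨C', hC', hcard⟩ := Finset.exists_subset_card_eq (show C.card ≤ Cᶜ.card by omega)
  have he : Fintype.card {x // x ∈ C} = Fintype.card {x // x ∈ C'} := by
    rw [Fintype.card_coe, Fintype.card_coe, hcard]
  let e := Fintype.equivOfCardEq he
  let g0 : Perm (Fin n) := e.extendSubtype
  have hg0 : ∀ x ∈ C, g0 x ∉ C := fun x hx => Finset.mem_compl.1 (hC' (e.extendSubtype_mem x hx))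
  rcases Int.units_eq_one_or (Perm.sign g0) with hs | hs
  · exact ⟨g0, Perm.mem_alternatingGroup.2 hs, hg0⟩
  · obtain ⟨a, b, ha, hb, hab⟩ := Finset.one_lt_card_iff.1 (show 1 < Cᶜ.card by omega)
    rw [Finset.mem_compl] at ha hb
    refine ⟨g0 * swap a b, ?_, ?_⟩
    · rw [Perm.mem_alternatingGroup, map_mul, hs, Perm.sign_swap hab]
      rfl
    · intro x hx
      have h6 : x ≠ a := by rintro rfl; exact ha hx
      have h7 : x ≠ b := by rintro rfl; exact hb hx
      rw [Perm.mul_apply, swap_apply_of_ne_of_ne h6 h7]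
      exact hg0 x hx

/-- an even permutation which fixes all but two points is trivial -/
theorem eq_one_of_two {g : Perm (Fin n)} (hg : g ∈ alternatingGroup (Fin n)) (Δ : Finset (Fin n)) (hΔ : Δᶜ.card ≤ 2)
    (h : ∀ x ∈ Δ, g x = x) : g = 1 := by
  have h1 : g.support ⊆ Δᶜ := by
    intro x hx
    rw [Finset.mem_compl]
    intro hxΔ
    exact Perm.mem_support.1 hx (h x hxΔ)
  have h2 : g.support.card ≤ 2 := (Finset.card_le_card h1).trans hΔ
  by_contra hne
  have h3 := Perm.two_le_card_support_of_ne_one hne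
  have h4 : g.IsSwap := Perm.card_support_eq_two.1 (le_antisymm h2 h3)
  have h5 := h4.sign_eq
  rw [Perm.mem_alternatingGroup.1 hg] at h5
  exact absurd h5 (by decide)

/-- the stabiliser of a set of size `w`, `n / 4 ≤ w < n / 2`, has too few commuting pairs -/
theorem no_quarter (hn : 7 ≤ n) {T : Subgroup (Perm (Fin n))} (hT : T ≤ alternatingGroup (Fin n))
    (hA : Nat.card (alternatingGroup (Fin n)) ≤ Nat.card T * Nat.card (ConjClasses T)) (Δ : Finset (Fin n))
    (hinv : ∀ g ∈ T, ∀ x, g x ∈ Δ ↔ x ∈ Δ) (h1 : n < 2 * Δ.card) (h2 : 4 * Δ.card ≤ 3 * n) : False := by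
  have : Nontrivial (Fin n) := Fin.nontrivial_iff_two_le.2 (by omega)
  have hA' : n ! ≤ 2 * (Nat.card T * Nat.card (ConjClasses T)) := by
    have h1 := two_mul_nat_card_alternatingGroup (α := Fin n)
    rw [Nat.card_perm, Nat.card_eq_fintype_card (α := Fin n), Fintype.card_fin] at h1
    rw [← h1]
    exact Nat.mul_le_mul_left _ hA
  have hcard : Fintype.card (Fin n) = n := Fintype.card_fin n
  have hcc : Δᶜ.card = n - Δ.card := by rw [Finset.card_compl, Fintype.card_fin]
  have hinvc : ∀ (g : T) x, (T.subtype g) x ∈ Δᶜ ↔ x ∈ Δᶜ := by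
    intro g x
    rw [Finset.mem_compl, Finset.mem_compl]
    exact not_congr (hinv g g.2 x)
  have hle : Δ.card ≤ n := by
    have := Finset.card_le_univ Δ
    rwa [Fintype.card_fin] at this
  by_cases h25 : 25 ≤ n
  · have h3 := choose_le_fib T.subtype_injective Δᶜ hinvc (c := 2) (by rw [hcard]; exact hA')
    have h4 := nb_large (w := Δᶜ.card) h25 (by omega) (by omega)
    rw [hcard] at h3
    omega
  · by_cases hw : 3 ≤ Δᶜ.card
    · have h3 := choose_le_row T.subtype_injective Δᶜ hinvc (c := 2) (by rw [hcard]; exact hA')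
      have h4 := nb_small (w := Δᶜ.card) hn (by omega) (by omega) (by omega) hw
      rw [hcard] at h3
      omega
    · -- the group acts faithfully on `Δ`
      have hinj : Function.Injective (resHom T.subtype (fun x => x ∈ Δ) fun g x => hinv g g.2 x) := by
        rw [injective_iff_map_eq_one]
        intro g hg
        apply Subtype.ext
        refine eq_one_of_two (hT g.2) Δ (by omega) ?_
        intro x hx
        exact congrArg (fun σ : Perm {x // x ∈ Δ} => ((σ ⟨x, hx⟩ : {x // x ∈ Δ}) : Fin n)) hg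
      have h3 := pairs_le _ hinj
      rw [Nat.card_perm, Nat.card_eq_fintype_card (α := {x // x ∈ Δ}), card_in] at h3
      have h4 := classes_le_row {x // x ∈ Δ}
      rw [card_in] at h4
      have h5 : n ! ≤ 2 * (Δ.card ! * row Δ.card Δ.card) :=
        hA'.trans (Nat.mul_le_mul_left _ (h3.trans (Nat.mul_le_mul_left _ h4)))
      have h6 : (n = 7 ∧ Δ.card = 5) ∨ (n = 8 ∧ Δ.card = 6) := by omega
      rcases h6 with ⟨h6, h7⟩ | ⟨h6, h7⟩ <;> rw [h7, h6] at h5 <;> revert h5 <;> decide +kernel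

/-- **NC (B)** -/
theorem core (hn : 7 ≤ n) {W : Type*} [Group W] [Nontrivial W] (T : W → Subgroup (Perm (Fin n)))
    (hone : alternatingGroup (Fin n) ≤ T 1)
    (hlt : ∀ w, w ≠ 1 → T w < alternatingGroup (Fin n)) (hmul : ∀ u v, T u ⊓ T v ≤ T (u * v)) (hinv : ∀ u, T u ≤ T u⁻¹)
    (hconj : ∀ g ∈ alternatingGroup (Fin n), ∀ w, ∃ w', ∀ x, x ∈ T w' ↔ g⁻¹ * x * g ∈ T w)
    (h : ∀ w, w ≠ 1 → Nat.card (alternatingGroup (Fin n)) ≤ Nat.card (T w) * Nat.card (ConjClasses (T w)))
    (hbig : ∀ w, w ≠ 1 → ∃ Δ : Finset (Fin n), n < 2 * Δ.card ∧ (∀ g ∈ T w, ∀ x, g x ∈ Δ ↔ x ∈ Δ) ∧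
      ∀ g ∈ alternatingGroup (Fin n), (∀ x ∉ Δ, g x = x) → g ∈ T w) : False := by
  classical
  choose Δ hΔ1 hΔ2 hΔ3 using fun w : {w : W // w ≠ 1} => hbig w w.2
  have : Nonempty {w : W // w ≠ 1} := by
    obtain ⟨w, hw⟩ := exists_ne (1 : W)
    exact ⟨⟨w, hw⟩⟩
  obtain ⟨w, hmin⟩ : ∃ w, ∀ w', (Δ w).card ≤ (Δ w').card :=
    ⟨Function.argmin (fun w => (Δ w).card), fun w' => Function.argmin_le (fun w => (Δ w).card) w'⟩
  have hle : ∀ X : Finset (Fin n), X.card ≤ n := by
    intro X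
    have := Finset.card_le_univ X
    rwa [Fintype.card_fin] at this
  have hcc : ∀ X : Finset (Fin n), Xᶜ.card = n - X.card := by
    intro X
    rw [Finset.card_compl, Fintype.card_fin]
  refine no_quarter hn (hlt w w.2).le (h w w.2) (Δ w) (hΔ2 w) (hΔ1 w) ?_
  by_contra hcon
  have hcpos : 0 < (Δ w)ᶜ.card := by
    by_contra h0
    have h1 : (Δ w)ᶜ = ∅ := Finset.card_eq_zero.1 (by omega)
    apply (hlt w w.2).not_ge
    intro g hg
    refine hΔ3 w g hg ?_
    intro x hx
    have h2 : x ∈ (Δ w)ᶜ := Finset.mem_compl.2 hx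
    rw [h1] at h2
    exact absurd h2 (Finset.notMem_empty x)
  have h0 := hle (Δ w)
  have h1 := hcc (Δ w)
  obtain ⟨g, hg, hgC⟩ := exists_move (Δ w)ᶜ (by omega) (by omega)
  obtain ⟨w', hw'⟩ := hconj g hg w
  -- the image of `Δ`
  set D' : Finset (Fin n) := (Δ w).map g.toEmbedding with hD'
  have hmemD' : ∀ x, x ∈ D' ↔ g⁻¹ x ∈ Δ w := by
    intro x
    rw [hD', Finset.mem_map_equiv]
    rfl
  have hcD' : D'.card = (Δ w).card := Finset.card_map _
  have hD2 : ∀ x ∈ T w', ∀ i, x i ∈ D' ↔ i ∈ D' := by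
    intro x hx i
    rw [hmemD', hmemD']
    have h2 := hΔ2 w _ ((hw' x).1 hx) (g⁻¹ i)
    rw [← h2]
    simp [Perm.mul_apply]
  have hD3 : ∀ x ∈ alternatingGroup (Fin n), (∀ i ∉ D', x i = i) → x ∈ T w' := by
    intro x hx hfix
    rw [hw']
    refine hΔ3 w _ ?_ ?_
    · rw [Perm.mem_alternatingGroup] at hx hg ⊢
      simp [hx, hg]
    · intro i hi
      have h2 : g i ∉ D' := by
        rw [hmemD']
        simpa using hi
      rw [Perm.mul_apply, Perm.mul_apply, hfix _ h2]
      simp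
  have hdisj : ∀ i, i ∉ D' → i ∈ Δ w := by
    intro i hi
    rw [hmemD'] at hi
    by_contra hcon2
    have h2 := hgC (g⁻¹ i) (Finset.mem_compl.2 hi)
    rw [show g (g⁻¹ i) = i by simp, Finset.mem_compl, not_not] at h2
    exact hcon2 h2
  obtain ⟨i0, hi0⟩ : ∃ i, i ∉ D' := by
    have h2 : 0 < D'ᶜ.card := by rw [hcc]; omega
    obtain ⟨i, hi⟩ := Finset.card_pos.1 h2
    exact ⟨i, Finset.mem_compl.1 hi⟩
  -- invariance of the complement
  have hcompl : ∀ (X : Finset (Fin n)) (x : Perm (Fin n)), (∀ i, x i ∈ X ↔ i ∈ X) → ∀ i, x i ∈ Xᶜ ↔ i ∈ Xᶜ := by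
    intro X x hx i
    rw [Finset.mem_compl, Finset.mem_compl, hx]
  have hw'1 : w' ≠ 1 := by
    rintro rfl
    apply (hlt w w.2).not_ge
    intro x hx
    have h2 : g * x * g⁻¹ ∈ T 1 := hone ((alternatingGroup (Fin n)).mul_mem ((alternatingGroup (Fin n)).mul_mem hg hx)
      ((alternatingGroup (Fin n)).inv_mem hg))
    have h3 := (hw' _).1 h2
    simpa [mul_assoc] using h3
  have hu1 : (w : W)⁻¹ * w' ≠ 1 := by
    intro hu
    have hww : w' = w := (inv_mul_eq_one.1 hu).symm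
    have h2 := disjoint_of_inv (X := Δ w) (Y := D'ᶜ) (by omega) (by rw [hcc]; omega) ?_ i0 (hdisj i0 hi0)
    · exact h2 (Finset.mem_compl.2 hi0)
    · intro x hx hfix
      apply hcompl
      apply hD2
      rw [hww]
      exact hΔ3 w x hx hfix
  set u : {w : W // w ≠ 1} := ⟨(w : W)⁻¹ * w', hu1⟩ with hu
  have hmu := hmin u
  -- `T w ⊓ T u ≤ T w'`
  have hT1 : T w ⊓ T u ≤ T w' := by
    have := hmul w u
    rwa [hu, mul_inv_cancel_left] at this
  have hT2 : T w' ⊓ T u ≤ T w := by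
    have h2 := hmul w' (u : W)⁻¹
    have h3 : w' * (u : W)⁻¹ = w := by
      rw [hu, mul_inv_rev, inv_inv, mul_inv_cancel_left]
    rw [h3] at h2
    exact (inf_le_inf_left _ (hinv u)).trans h2
  have hX1 : n ≤ (Δ w ∩ Δ u).card + 2 * (Δ w)ᶜ.card := by
    have h2 := Finset.card_union_add_card_inter (Δ w) (Δ u)
    have h3 := hle (Δ w ∪ Δ u)
    omega
  have hX2 : n ≤ (D' ∩ Δ u).card + 2 * (Δ w)ᶜ.card := by
    have h2 := Finset.card_union_add_card_inter D' (Δ u)
    have h3 := hle (D' ∪ Δ u)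
    omega
  have hS1 : ∀ i, i ∉ D' → i ∉ Δ u := by
    intro i hi hiu
    have h2 := disjoint_of_inv (X := Δ w ∩ Δ u) (Y := D'ᶜ) (by omega) (by rw [hcc]; omega) ?_ i
      (Finset.mem_inter.2 ⟨hdisj i hi, hiu⟩)
    · exact h2 (Finset.mem_compl.2 hi)
    · intro x hx hfix
      apply hcompl
      apply hD2
      apply hT1
      refine ⟨hΔ3 w x hx fun j hj => hfix j fun hj' => hj (Finset.mem_inter.1 hj').1,
        hΔ3 u x hx fun j hj => hfix j fun hj' => hj (Finset.mem_inter.1 hj').2⟩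
  have hS2 : ∀ i, i ∉ Δ w → i ∉ Δ u := by
    intro i hi hiu
    have hiD : i ∈ D' := by
      by_contra hcon2
      exact hi (hdisj i hcon2)
    have h2 := disjoint_of_inv (X := D' ∩ Δ u) (Y := (Δ w)ᶜ) (by omega) (by rw [hcc]; omega) ?_ i
      (Finset.mem_inter.2 ⟨hiD, hiu⟩)
    · exact h2 (Finset.mem_compl.2 hi)
    · intro x hx hfix
      apply hcompl
      apply hΔ2 w
      apply hT2
      refine ⟨hD3 x hx fun j hj => hfix j fun hj' => hj (Finset.mem_inter.1 hj').1,
        hΔ3 u x hx fun j hj => hfix j fun hj' => hj (Finset.mem_inter.1 hj').2⟩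
  have hsub : D'ᶜ ∪ (Δ w)ᶜ ⊆ (Δ u)ᶜ := by
    intro i hi
    rw [Finset.mem_union, Finset.mem_compl, Finset.mem_compl] at hi
    rw [Finset.mem_compl]
    rcases hi with hi | hi
    · exact hS1 i hi
    · exact hS2 i hi
  have hdj : Disjoint D'ᶜ (Δ w)ᶜ := by
    rw [Finset.disjoint_left]
    intro i hi hi2
    rw [Finset.mem_compl] at hi hi2
    exact hi2 (hdisj i hi)
  have h4 := Finset.card_le_card hsub
  rw [Finset.card_union_of_disjoint hdj, hcc, hcc, hcc] at h4
  omega

end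

/-!
# NC: the form for an action of a group `P` with quotient `A_n` on a group `W` (helper797, S4766)
-/

section

open Equiv MulAction

variable {n : ℕ}

/-- the conclusion of NC (A) for the subgroup `T` -/
def HasBig (T : Subgroup (Perm (Fin n))) : Prop :=
  ∃ Δ : Finset (Fin n), n < 2 * Δ.card ∧ (∀ g ∈ T, ∀ x, g x ∈ Δ ↔ x ∈ Δ) ∧
    ∀ g ∈ alternatingGroup (Fin n), (∀ x ∉ Δ, g x = x) → g ∈ T

/-- NC (A) for `n ≥ 20`; `hk` is S4197 -/
theorem hasBig (hn : 20 ≤ n) {T : Subgroup (Perm (Fin n))} (hk : Nat.card (ConjClasses T) ≤ 2 ^ (n - 1))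
    (hA : Nat.card (alternatingGroup (Fin n)) ≤ Nat.card T * Nat.card (ConjClasses T)) : HasBig T := by
  have hc : Fintype.card (Fin n) = n := Fintype.card_fin n
  obtain ⟨Δ, h1, h2, h3⟩ := big (T := T) (by rw [hc]; exact hn) (by rw [hc]; exact hk) hA
  rw [hc] at h1
  exact ⟨Δ, by omega, h2, h3⟩

/-- **NC**: a group `P` with a surjective homomorphism on `A_n` whose kernel acts trivially on `W` -/
theorem main (hn : 7 ≤ n) {P W : Type*} [Group P] [Group W] [Nontrivial W] [MulDistribMulAction P W]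
    (φ : P →* alternatingGroup (Fin n)) (hφ : Function.Surjective φ) (hker : ∀ g : P, φ g = 1 → ∀ w : W, g • w = w)
    (hfix : ∀ w : W, (∀ g : P, g • w = w) → w = 1)
    (h : ∀ w : W, w ≠ 1 → Nat.card (alternatingGroup (Fin n)) ≤
      Nat.card ((stabilizer P w).map φ) * Nat.card (ConjClasses ((stabilizer P w).map φ)))
    (hbig : ∀ T : Subgroup (Perm (Fin n)), T < alternatingGroup (Fin n) →
      Nat.card (alternatingGroup (Fin n)) ≤ Nat.card T * Nat.card (ConjClasses T) → HasBig T) : False := by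
  -- two elements with the same image act in the same way
  have hsame : ∀ s t : P, φ s = φ t → ∀ w : W, s • w = t • w := by
    intro s t hst w
    have h1 : φ (t⁻¹ * s) = 1 := by rw [map_mul, map_inv, hst, inv_mul_cancel]
    have h2 := hker _ h1 w
    rw [mul_smul, inv_smul_eq_iff] at h2
    exact h2
  let S : W → Subgroup (alternatingGroup (Fin n)) := fun w => (stabilizer P w).map φ
  have hS : ∀ (w : W) (p : P), φ p ∈ S w ↔ p • w = w := by
    intro w p
    constructor
    · rintro ⟨s, hs, hsp⟩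
      rw [← hsame s p hsp]
      exact hs
    · intro hp
      exact ⟨p, hp, rfl⟩
  let T : W → Subgroup (Perm (Fin n)) := fun w => (S w).map (alternatingGroup (Fin n)).subtype
  have hT : ∀ (w : W) (p : P), (φ p : Perm (Fin n)) ∈ T w ↔ p • w = w := by
    intro w p
    rw [← hS]
    constructor
    · rintro ⟨s, hs, hsp⟩
      have : s = φ p := Subtype.ext hsp
      rwa [← this]
    · intro hp
      exact ⟨φ p, hp, rfl⟩
  have hTA : ∀ w, T w ≤ alternatingGroup (Fin n) := by
    rintro w _ ⟨s, -, rfl⟩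
    exact s.2
  have hex : ∀ x ∈ alternatingGroup (Fin n), ∃ p : P, (φ p : Perm (Fin n)) = x := by
    intro x hx
    obtain ⟨p, hp⟩ := hφ ⟨x, hx⟩
    exact ⟨p, congrArg Subtype.val hp⟩
  have hpairs : ∀ w : W, w ≠ 1 → Nat.card (alternatingGroup (Fin n)) ≤ Nat.card (T w) * Nat.card (ConjClasses (T w)) := by
    intro w hw
    have e : S w ≃* T w := (S w).equivMapOfInjective _ (alternatingGroup (Fin n)).subtype_injective
    rw [← H540.ClassNum.card_conjClasses_congr e, ← Nat.card_congr e.toEquiv]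
    exact h w hw
  have hlt : ∀ w : W, w ≠ 1 → T w < alternatingGroup (Fin n) := by
    intro w hw
    refine lt_of_le_not_ge (hTA w) fun hcon => hw (hfix w fun p => ?_)
    rw [← hT]
    exact hcon (φ p).2
  refine core hn T ?_ hlt ?_ ?_ ?_ hpairs fun w hw => hbig _ (hlt w hw) (hpairs w hw)
  · intro x hx
    obtain ⟨p, rfl⟩ := hex x hx
    rw [hT]
    exact smul_one p
  · intro u v x hx
    obtain ⟨p, rfl⟩ := hex x (hTA u hx.1)
    have h1 := (hT u p).1 hx.1
    have h2 := (hT v p).1 hx.2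
    rw [hT, smul_mul', h1, h2]
  · intro u x hx
    obtain ⟨p, rfl⟩ := hex x (hTA u hx)
    have h1 := (hT u p).1 hx
    rw [hT, smul_inv', h1]
  · intro g hg w
    obtain ⟨p, rfl⟩ := hex g hg
    refine ⟨p • w, fun x => ?_⟩
    have key : ∀ q : P, (φ q : Perm (Fin n)) ∈ T (p • w) ↔
        (φ p : Perm (Fin n))⁻¹ * (φ q : Perm (Fin n)) * (φ p : Perm (Fin n)) ∈ T w := by
      intro q
      have h1 : (φ p : Perm (Fin n))⁻¹ * (φ q : Perm (Fin n)) * (φ p : Perm (Fin n)) = (φ (p⁻¹ * q * p) : Perm (Fin n)) := by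
        rw [map_mul, map_mul, map_inv]
        rfl
      rw [h1, hT, hT, mul_smul, mul_smul, inv_smul_eq_iff]
    constructor
    · intro hx
      obtain ⟨q, rfl⟩ := hex x (hTA _ hx)
      exact (key q).1 hx
    · intro hx
      have hx' : x ∈ alternatingGroup (Fin n) := by
        have h1 := (alternatingGroup (Fin n)).mul_mem ((alternatingGroup (Fin n)).mul_mem (φ p).2 (hTA _ hx))
          ((alternatingGroup (Fin n)).inv_mem (φ p).2)
        simpa [mul_assoc] using h1
      obtain ⟨q, rfl⟩ := hex x hx'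
      exact (key q).2 hx

end

end Cfsg.Agent.H797.Nc
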